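/-
Groups of automorphisms stabilising a chain of subgroups of a finite p-group.

Main results (namespace `Cfsg.Agent.FusionChain`):
* `eq_self_of_stab` : an automorphism of order prime to the orders in `U` that fixes `U` pointwise fixes every `x`
  with `x⁻¹ * β x ∈ U`;
* `exists_pow_coprime` : a power `α ^ p ^ k` of an element of finite order has order prime to `p`;
* `isPGroup_of_coprime_trivial` : a finite group in which the only element of order prime to `p` is `1` is a p-group;
* `eq_one_of_stabilizes_chain`, `isPGroup_of_stabilizes_chain` : the automorphisms stabilising a chain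
  `U 0 = 1 ≤ ⋯ ≤ U n = R` of a finite p-group `R` form a p-group;
* `le_pCore_of_normal`, `mem_pCore_of_stabilizes_chain` : normal p-subgroups lie in `Cfsg.pCore`.
-/
import Cfsg.Agent.EqLemmas

set_option autoImplicit false

namespace Cfsg.Agent.FusionChain

variable {R : Type*} [Group R]

/-- An automorphism of order prime to the order of `x⁻¹ * β x` fixing that element fixes `x`. -/
theorem eq_self_of_coprime (β : MulAut R) (x : R) (hfix : β (x⁻¹ * β x) = x⁻¹ * β x)
    (hcop : (orderOf β).Coprime (orderOf (x⁻¹ * β x))) : β x = x := by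
  have key : ∀ n : ℕ, (β ^ n) x = x * (x⁻¹ * β x) ^ n := by
    intro n
    induction n with
    | zero => simp
    | succ m ih =>
      rw [pow_succ', MulAut.mul_apply, ih, map_mul, map_pow, hfix, pow_succ', ← mul_assoc]
      simp
  have h1 := key (orderOf β)
  rw [pow_orderOf_eq_one, MulAut.one_apply] at h1
  have h2 : (x⁻¹ * β x) ^ orderOf β = 1 := mul_eq_left.mp h1.symm
  have h3 : orderOf (x⁻¹ * β x) = 1 :=
    Nat.eq_one_of_dvd_coprimes hcop (orderOf_dvd_of_pow_eq_one h2) dvd_rfl
  rw [orderOf_eq_one_iff, inv_mul_eq_one] at h3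
  exact h3.symm

/-- An automorphism of order prime to `p` fixing `U` pointwise fixes every `x` that it moves inside `xU`,
in a `p`-group. -/
theorem eq_self_of_stab {p : ℕ} [Fact p.Prime] (hR : IsPGroup p R) (β : MulAut R)
    (hβ : (orderOf β).Coprime p) (U : Subgroup R) (hfix : ∀ u ∈ U, β u = u) (x : R)
    (h : x⁻¹ * β x ∈ U) : β x = x := by
  refine eq_self_of_coprime β x (hfix _ h) ?_
  obtain ⟨k, hk⟩ := IsPGroup.iff_orderOf.mp hR (x⁻¹ * β x)
  rw [hk]
  exact hβ.pow_right k

/-- Some `p`-power power of an element of finite order has order prime to `p`. -/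
theorem exists_pow_coprime {G : Type*} [Group G] [Finite G] (p : ℕ) [hp : Fact p.Prime] (α : G) :
    ∃ k : ℕ, (orderOf (α ^ p ^ k)).Coprime p := by
  refine ⟨(orderOf α).factorization p, ?_⟩
  have hne : orderOf α ≠ 0 := (orderOf_pos α).ne'
  rw [orderOf_pow' _ (pow_ne_zero _ hp.out.ne_zero),
    Nat.gcd_eq_right (Nat.ordProj_dvd (orderOf α) p)]
  exact (Nat.coprime_ordCompl hp.out hne).symm

/-- A finite group whose only element of order prime to `p` is `1` is a `p`-group. -/
theorem isPGroup_of_coprime_trivial {G : Type*} [Group G] [Finite G] {p : ℕ} [Fact p.Prime]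
    (h : ∀ g : G, (orderOf g).Coprime p → g = 1) : IsPGroup p G := fun g => by
  obtain ⟨k, hk⟩ := exists_pow_coprime p g
  exact ⟨k, h _ hk⟩

/-- An automorphism of order prime to `p` of a `p`-group stabilising a chain is the identity. -/
theorem eq_one_of_stabilizes_chain {p : ℕ} [Fact p.Prime] (hR : IsPGroup p R) (β : MulAut R)
    (hβ : (orderOf β).Coprime p) (n : ℕ) (U : ℕ → Subgroup R) (h0 : U 0 = ⊥) (hn : U n = ⊤)
    (hst : ∀ i < n, ∀ x ∈ U (i + 1), x⁻¹ * β x ∈ U i) : β = 1 := by
  have key : ∀ i ≤ n, ∀ x ∈ U i, β x = x := by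
    intro i
    induction i with
    | zero =>
      intro _ x hx
      rw [h0, Subgroup.mem_bot] at hx
      rw [hx, map_one]
    | succ m ih =>
      intro hm x hx
      exact eq_self_of_stab hR β hβ (U m) (ih (by omega)) x (hst m (by omega) x hx)
  ext x
  exact key n le_rfl x (hn ▸ Subgroup.mem_top x)

/-- A group of automorphisms of a finite `p`-group stabilising a chain is a `p`-group. -/
theorem isPGroup_of_stabilizes_chain [Finite R] {p : ℕ} [Fact p.Prime] (hR : IsPGroup p R)
    (K : Subgroup (MulAut R)) (n : ℕ) (U : ℕ → Subgroup R) (h0 : U 0 = ⊥) (hn : U n = ⊤)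
    (hst : ∀ α ∈ K, ∀ i < n, ∀ x ∈ U (i + 1), x⁻¹ * α x ∈ U i) : IsPGroup p K := by
  refine isPGroup_of_coprime_trivial fun g hg => ?_
  exact Subtype.ext <| eq_one_of_stabilizes_chain hR (g : MulAut R)
    (by rwa [Subgroup.orderOf_coe]) n U h0 hn (hst g g.2)

/-- A normal `p`-subgroup lies in `O_p`. -/
theorem le_pCore_of_normal {G : Type*} [Group G] {p : ℕ} (N : Subgroup G) (hN : N.Normal)
    (hp : IsPGroup p N) : N ≤ Cfsg.pCore p G :=
  le_sSup ⟨hN, hp⟩

/-- Inside a group `A` of automorphisms of a finite `p`-group `R` leaving a chain invariant, the elements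
stabilising the chain lie in `O_p(A)`. -/
theorem mem_pCore_of_stabilizes_chain [Finite R] {p : ℕ} [Fact p.Prime] (hR : IsPGroup p R)
    (A : Subgroup (MulAut R)) (n : ℕ) (U : ℕ → Subgroup R) (h0 : U 0 = ⊥) (hn : U n = ⊤)
    (hmono : ∀ i < n, U i ≤ U (i + 1))
    (hinv : ∀ a ∈ A, ∀ i ≤ n, ∀ x ∈ U i, a x ∈ U i)
    (α : A) (hα : ∀ i < n, ∀ x ∈ U (i + 1), x⁻¹ * (α : MulAut R) x ∈ U i) :
    α ∈ Cfsg.pCore p A := by
  -- the stabiliser of the chain inside `A`
  let K : Subgroup A :=
    { carrier := {a : A | ∀ i < n, ∀ x ∈ U (i + 1), x⁻¹ * (a : MulAut R) x ∈ U i}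
      one_mem' := by intro i _ x _; simp
      mul_mem' := by
        intro a b ha hb i hi x hx
        have hbx : x⁻¹ * (b : MulAut R) x ∈ U i := hb i hi x hx
        have hab := hinv _ a.2 i (by omega) _ hbx
        rw [map_mul, map_inv] at hab
        have := (U i).mul_mem (ha i hi x hx) hab
        rwa [mul_assoc, mul_inv_cancel_left] at this
      inv_mem' := by
        intro a ha i hi x hx
        have hy : (a⁻¹ : A).1 x ∈ U (i + 1) := hinv _ (a⁻¹ : A).2 (i + 1) (by omega) _ hx
        have := ha i hi _ hy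
        rw [InvMemClass.coe_inv, MulAut.apply_inv_self] at this
        have h2 := (U i).inv_mem this
        rw [mul_inv_rev, inv_inv] at h2
        exact h2 }
  refine le_pCore_of_normal K ⟨fun a ha b => ?_⟩ ?_ hα
  · intro i hi x hx
    have hy : (b⁻¹ : A).1 x ∈ U (i + 1) := hinv _ (b⁻¹ : A).2 (i + 1) (by omega) _ hx
    have h2 := hinv _ b.2 i (by omega) _ (ha i hi _ hy)
    rw [map_mul, map_inv, InvMemClass.coe_inv, MulAut.apply_inv_self] at h2
    exact h2
  · refine isPGroup_of_coprime_trivial fun g hg => ?_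
    refine Subtype.ext (Subtype.ext ?_)
    refine eq_one_of_stabilizes_chain hR ((g : A) : MulAut R) ?_ n U h0 hn g.2
    rwa [Subgroup.orderOf_coe, Subgroup.orderOf_coe]

end Cfsg.Agent.FusionChain
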