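/-
Alperin's fusion theorem in induction form, and criteria for a subgroup to be normal in a saturated system.

Main results (namespace `Cfsg.Agent.FusionChain`):
* `exists_extension` : an automorphism `α` of a receptive `R` extends to `R ⊔ M` when it carries the conjugations
  by `M ≤ N_S(R)` to conjugations by elements of `S`;
* `exists_extension_NK` : if `α` normalizes `Aut_S(R) ⊓ K`, it extends to `N_S^K(R)` and preserves it;
* `pCoreAut`, `inn_le_pCoreAut`, `pCoreAut_le_autInducedBy`, `le_pCoreAut`, `isRadical_iff`;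
* `alperin_induction` : induction on maps of a saturated system; the base case is an automorphism of a fully
  normalized centric radical subgroup and comes with the hypothesis for all maps on subgroups of larger order;
* `alperin` : the same without that extra hypothesis;
* `isNormal_iff` : `IsNormal` in terms of functions; `mapsTo_of_normal`;
* `isNormal_of_radicals` : `Q` is normal if every fully normalized centric radical subgroup contains `Q` and its
  automizer leaves `Q` invariant; `isNormal_top_of_radicals` for `Q = S`.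
-/
import Cfsg.Agent.Lib.Fusion.Saturation
import Cfsg.Agent.Lib.FusionChain.Stabilizer

set_option autoImplicit false

namespace Cfsg.Agent.FusionChain

open Cfsg Cfsg.FusionSystem Cfsg.Agent.Fusion

variable {Ω : Type*} [Group Ω] {S : Subgroup Ω} {F : FusionSystem S}

/-- An automorphism of a receptive subgroup extends to `R ⊔ M` as soon as it carries the conjugations by `M` to
conjugations by elements of `S`. -/
theorem exists_extension {R M : Subgroup Ω} (hR : F.IsReceptive R) {α : MulAut R} (hα : α ∈ F.autGroup R)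
    (hM : M ≤ normalizerIn S R)
    (h : ∀ g : Ω, ∀ hg : g ∈ M, α * normConj S R ⟨g, hM hg⟩ * α⁻¹ ∈ autInducedBy S R) :
    ∃ f, IsMap F (R ⊔ M) f ∧ ∀ x ∈ R, f x = autFn α x := by
  obtain ⟨f, hf, hfα⟩ := (isReceptive_iff.1 hR).2 R (autFn α) (isIso_autFn hR.1 hα)
  refine ⟨f, hf.mono (sup_le (le_Nx (isIso_autFn hR.1 hα).1) fun g hg => ?_), hfα⟩
  obtain ⟨s, hs, hsα⟩ := mem_autInducedBy_iff.1 (h g hg)
  refine mem_Nx.2 ⟨hM hg, s, hs, fun x hx => ?_⟩
  have key := hsα (α ⟨x, hx⟩)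
  rw [MulAut.mul_apply, MulAut.mul_apply, MulAut.inv_apply_self] at key
  rw [autFn_apply α hx, autFn_apply α (normalizerIn_conj (hM hg) hx), ← key]
  rfl

/-- If `α` normalizes `Aut_S(R) ⊓ K`, it extends to `N_S^K(R)` and preserves that subgroup. -/
theorem exists_extension_NK {R : Subgroup Ω} (hR : F.IsReceptive R) {α : MulAut R} (hα : α ∈ F.autGroup R)
    (K : Subgroup (MulAut R))
    (hK : ∀ k ∈ autInducedBy S R ⊓ K, α * k * α⁻¹ ∈ autInducedBy S R ⊓ K) :
    ∃ f, IsMap F (R ⊔ NK S R K) f ∧ (∀ x ∈ R, f x = autFn α x) ∧ ∀ g ∈ NK S R K, f g ∈ NK S R K := by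
  have hmem : ∀ g : Ω, ∀ hg : g ∈ NK S R K,
      normConj S R ⟨g, NK_le_normalizerIn S R K hg⟩ ∈ autInducedBy S R ⊓ K := by
    intro g hg
    obtain ⟨g', hg', he⟩ := hg
    obtain rfl : (g' : Ω) = g := he
    exact ⟨range_normConj S R ▸ ⟨_, rfl⟩, hg'⟩
  obtain ⟨f, hf, hfα⟩ := exists_extension hR hα (NK_le_normalizerIn S R K)
    fun g hg => (hK _ (hmem g hg)).1
  refine ⟨f, hf, hfα, fun g hg => ?_⟩
  refine mem_NK.2 ⟨hf.mem (Subgroup.mem_sup_right hg), _, (hK _ (hmem g hg)).2, fun y => ?_⟩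
  obtain ⟨x, rfl⟩ := α.surjective y
  rw [MulAut.mul_apply, MulAut.mul_apply, MulAut.inv_apply_self]
  have h1 := hf.map_conj (Subgroup.mem_sup_right hg : g ∈ R ⊔ NK S R K)
    (Subgroup.mem_sup_left x.2 : (x : Ω) ∈ R ⊔ NK S R K)
  rw [hfα _ x.2, autFn_apply α x.2, hfα _ (normalizerIn_conj (NK_le_normalizerIn S R K hg) x.2),
    autFn_apply α (normalizerIn_conj (NK_le_normalizerIn S R K hg) x.2)] at h1
  exact h1

/-! ### Radical subgroups -/

/-- `O_p(Aut_F(R))` as a group of automorphisms of `R`. -/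
def pCoreAut (F : FusionSystem S) (p : ℕ) (R : Subgroup Ω) : Subgroup (MulAut R) :=
  (Cfsg.pCore p (F.autGroup R)).map (F.autGroup R).subtype

theorem isRadical_iff {p : ℕ} {R : Subgroup Ω} : F.IsRadical p R ↔ R ≤ S ∧ pCoreAut F p R = Cfsg.Inn R :=
  Iff.rfl

theorem pCoreAut_le_autGroup (p : ℕ) (R : Subgroup Ω) : pCoreAut F p R ≤ F.autGroup R :=
  Subgroup.map_subtype_le _

theorem conj_mem_pCoreAut {p : ℕ} {R : Subgroup Ω} {α β : MulAut R} (hα : α ∈ F.autGroup R)
    (hβ : β ∈ pCoreAut F p R) : α * β * α⁻¹ ∈ pCoreAut F p R := by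
  obtain ⟨b, hb, rfl⟩ := hβ
  exact ⟨⟨α, hα⟩ * b * ⟨α, hα⟩⁻¹,
    (Subgroup.sSup_normal _ fun _ h => h.1 : (Cfsg.pCore p (F.autGroup R)).Normal).conj_mem b hb _, rfl⟩

theorem isPGroup_pCoreAut (p : ℕ) (R : Subgroup Ω) : IsPGroup p (pCoreAut F p R) :=
  (Sylow.sSup_of_normal {N : Subgroup (F.autGroup R) | N.Normal ∧ IsPGroup p N}
    (fun _ h => h.2) (fun _ h => h.1)).map _

/-- A `p`-group of automorphisms of the system normalized by all of them lies in `O_p`. -/
theorem le_pCoreAut {p : ℕ} {R : Subgroup Ω} {K : Subgroup (MulAut R)} (hK : IsPGroup p K)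
    (hle : K ≤ F.autGroup R) (hn : ∀ α ∈ F.autGroup R, ∀ k ∈ K, α * k * α⁻¹ ∈ K) :
    K ≤ pCoreAut F p R := by
  intro k hk
  refine ⟨⟨k, hle hk⟩, le_pCore_of_normal (K.subgroupOf (F.autGroup R))
    ⟨fun n hn' g => hn g g.2 n hn'⟩ ?_ hk, rfl⟩
  exact hK.of_equiv (Subgroup.subgroupOfEquivOfLe hle).symm

theorem inn_le_pCoreAut [Finite S] {p : ℕ} (hS : IsPGroup p S) {R : Subgroup Ω} (hR : R ≤ S) :
    Cfsg.Inn R ≤ pCoreAut F p R := by
  refine le_pCoreAut ?_ (inn_le_autGroup F hR) fun α _ k hk => (Cfsg.innNormal R).conj_mem k hk α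
  exact (hS.to_le hR).of_surjective (MulAut.conj : R →* MulAut R).rangeRestrict
    (MonoidHom.rangeRestrict_surjective _)

/-- For a fully automized subgroup, `O_p(Aut_F(R))` consists of conjugations by elements of `S`. -/
theorem pCoreAut_le_autInducedBy [Finite S] {p : ℕ} [Fact p.Prime] {R : Subgroup Ω}
    (hA : F.IsFullyAutomized p R) : pCoreAut F p R ≤ autInducedBy S R := by
  have := finite_mulAut hA.1
  obtain ⟨a, ha, hconj⟩ := (isFullyAutomized_iff.1 hA).2.exists_conj_le (isPGroup_pCoreAut p R)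
    (pCoreAut_le_autGroup p R)
  intro k hk
  have h1 := hconj _ (conj_mem_pCoreAut (Subgroup.inv_mem _ ha) hk)
  simpa [mul_assoc] using h1

/-- A fully automized subgroup that is not radical is properly contained in `N_S^K(R)` for `K = O_p(Aut_F(R))`. -/
theorem lt_NK_pCoreAut [Finite S] {p : ℕ} [Fact p.Prime] (hS : IsPGroup p S) {R : Subgroup Ω}
    (hA : F.IsFullyAutomized p R) (hnr : ¬ F.IsRadical p R) : R < NK S R (pCoreAut F p R) := by
  have hle : R ≤ NK S R (pCoreAut F p R) := fun g hg =>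
    mem_NK.2 ⟨hA.1 hg, MulAut.conj (⟨g, hg⟩ : R), inn_le_pCoreAut hS hA.1 ⟨⟨g, hg⟩, rfl⟩, fun x => rfl⟩
  refine lt_of_le_of_ne hle fun he => hnr ⟨hA.1, le_antisymm ?_ (inn_le_pCoreAut hS hA.1)⟩
  intro k hk
  obtain ⟨g, hg, hgk⟩ := mem_autInducedBy_iff.1 (pCoreAut_le_autInducedBy hA hk)
  have hgR : g ∈ R := he.symm.le (mem_NK.2 ⟨hg, k, hk, hgk⟩)
  exact ⟨⟨g, hgR⟩, MulEquiv.ext fun x => Subtype.ext (hgk x).symm⟩

/-! ### Alperin's theorem -/

/-- Alperin's fusion theorem in induction form. -/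
theorem alperin_induction [Finite S] {p : ℕ} [Fact p.Prime] (hS : IsPGroup p S) (hF : F.IsSaturated p)
    (M : Subgroup Ω → (Ω → Ω) → Prop)
    (hcongr : ∀ P f g, IsMap F P f → M P f → (∀ x ∈ P, f x = g x) → M P g)
    (hmono : ∀ P P' f, IsMap F P f → P' ≤ P → M P f → M P' f)
    (hcomp : ∀ P P' f g, IsMap F P f → IsMap F P' g → (∀ x ∈ P, f x ∈ P') → M P f → M P' g →
      M P (fun x => g (f x)))
    (hbase : ∀ R : Subgroup Ω, F.IsFullyNormalized R → F.IsCentric R → F.IsRadical p R →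
      ∀ α ∈ F.autGroup R,
        (∀ P f, IsMap F P f → Nat.card R < Nat.card P → M P f) → M R (autFn α))
    {P : Subgroup Ω} {f : Ω → Ω} (hf : IsMap F P f) : M P f := by
  suffices ∀ d, ∀ P f, IsMap F P f → Nat.card S ≤ Nat.card P + d → M P f from
    this _ P f hf (Nat.le_add_left _ _)
  intro d
  induction d using Nat.strong_induction_on with
  | _ d ih =>
  intro P f hf hd
  have hPS := hf.le
  have hcardle : ∀ {Q : Subgroup Ω}, Q ≤ S → Nat.card Q ≤ Nat.card S := fun hQ => Subgroup.card_le_of_le hQ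
  have hlt : ∀ {A B : Subgroup Ω}, B ≤ S → A < B → Nat.card A < Nat.card B := by
    intro A B hB hAB
    refine lt_of_le_of_ne (have := finite_of_le hB; Subgroup.card_le_of_le hAB.le) fun he => hAB.ne ?_
    exact eq_of_le_of_card hB hAB.le he.ge
  have big : ∀ P' g, IsMap F P' g → Nat.card P < Nat.card P' → M P' g := by
    intro P' g hg hlt'
    have := hcardle hg.le
    exact ih (Nat.card S - Nat.card P') (by omega) P' g hg (by omega)
  -- automorphisms of fully normalized subgroups of the same order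
  have haut : ∀ R, F.IsFullyNormalized R → Nat.card R = Nat.card P → ∀ α ∈ F.autGroup R, M R (autFn α) := by
    intro R hR hRP α hα
    have hA := fullyAutomized_of_fullyNormalized hS hF hR
    have hRr := receptive_of_fullyNormalized hS hF hR
    have hext : ∀ E g, R < E → IsMap F E g → (∀ x ∈ R, g x = autFn α x) → M R (autFn α) := by
      intro E g hE hg he
      refine hcongr R g _ (hg.mono hE.le) (hmono E R g hg hE.le (big E g hg ?_)) he
      exact hRP ▸ hlt hg.le hE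
    by_cases hc : centralizerIn S R ≤ R
    · by_cases hr : F.IsRadical p R
      · exact hbase R hR (centric_of_fullyCentralized (fullyCentralized_of_receptive hRr) hc) hr α hα
          fun P' g hg h => big P' g hg (hRP ▸ h)
      · obtain ⟨g, hg, hgα, -⟩ := exists_extension_NK hRr hα (pCoreAut F p R) fun k hk =>
          ⟨pCoreAut_le_autInducedBy hA (conj_mem_pCoreAut hα hk.2), conj_mem_pCoreAut hα hk.2⟩
        exact hext _ g (lt_of_lt_of_le (lt_NK_pCoreAut hS hA hr) le_sup_right) hg hgα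
    · obtain ⟨g, hg, hgα⟩ := exists_extension hRr hα (centralizerIn_le_normalizerIn S R) fun c hc' => by
        have : normConj S R ⟨c, centralizerIn_le_normalizerIn S R hc'⟩ = 1 := (normConj_eq_one_iff _).2 hc'
        rw [this, mul_one, mul_inv_cancel]
        exact Subgroup.one_mem _
      exact hext _ g (left_lt_sup.2 hc) hg hgα
  rcases eq_or_lt_of_le hPS with rfl | hPlt
  · -- a map defined on all of `S`
    have himg : img f P = P := eq_of_le_of_card le_rfl hf.img_le_S (hf.card_img le_rfl).ge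
    have hfn : F.IsFullyNormalized P := by
      refine ⟨le_rfl, fun Q hQ => ?_⟩
      rw [normalizerIn_self]
      exact Subgroup.card_le_of_le inf_le_left
    obtain ⟨α, hα, he⟩ := exists_aut_of_isIso (⟨hf, himg⟩ : IsIso F P P f)
    have he' : ∀ x ∈ P, autFn α x = f x := fun x hx => (autFn_apply α hx).trans (he ⟨x, hx⟩)
    exact hcongr P _ f (hf.congr fun x hx => (he' x hx).symm) (haut P hfn rfl α hα) he'
  · set P₂ := img f P with hP₂
    have hcard₂ : Nat.card P₂ = Nat.card P := hf.card_img le_rfl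
    have hP₂S : P₂ ≤ S := hf.img_le_S
    have hP₂lt : P₂ < S := lt_of_le_of_ne hP₂S fun h => hPlt.ne
      (eq_of_le_of_card le_rfl hPS (by rw [← hcard₂, h]))
    obtain ⟨R, hR₂, hRA, hRR⟩ := hF P₂ hP₂S
    have hRfn := fullyNormalized_of_far hS hRA hRR
    obtain ⟨f₂, hf₂, hf₂R, -⟩ := exists_normalizer_map hS hRA hRR hR₂
    have hPR : F.IsConj P R := isConj_trans (isConj_iff.2 ⟨f, hf, rfl⟩) hR₂
    obtain ⟨f₁, hf₁, hf₁R, -⟩ := exists_normalizer_map hS hRA hRR hPR
    have hPN : P ≤ normalizerIn S P := le_normalizerIn hPS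
    have hP₂N : P₂ ≤ normalizerIn S P₂ := le_normalizerIn hP₂S
    have hN₁ : Nat.card P < Nat.card (normalizerIn S P) :=
      hlt inf_le_left (lt_normalizerIn hS le_rfl hPlt)
    have hN₂ : Nat.card P < Nat.card (normalizerIn S P₂) :=
      hcard₂ ▸ hlt inf_le_left (lt_normalizerIn hS le_rfl hP₂lt)
    have h₁ : IsIso F P R f₁ := ⟨hf₁.mono hPN, hf₁R⟩
    have h₂ : IsIso F P₂ R f₂ := ⟨hf₂.mono hP₂N, hf₂R⟩
    have hM₁ : M P f₁ := hmono _ P f₁ hf₁ hPN (big _ f₁ hf₁ hN₁)
    obtain ⟨g₁, hg₁, hg₁f, -⟩ := h₁.symm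
    obtain ⟨α, hα, hαe⟩ := exists_aut_of_isIso ((hg₁.trans (hf.isIso)).trans h₂)
    have hMα : M R (autFn α) := haut R hRfn (h₁.card_eq) α hα
    obtain ⟨j, hj, hjf, -⟩ := (hf₂.isIso).symm
    have hMj : M (img f₂ (normalizerIn S P₂)) j := big _ j hj.1 ((hf₂.card_img le_rfl).symm ▸ hN₂)
    have hRle : R ≤ img f₂ (normalizerIn S P₂) := by
      rw [← hf₂R]
      exact (hf₂.mono hP₂N).img_le le_rfl fun x hx => hf₂.mem_img (hP₂N hx)
    have hval : ∀ x ∈ P, autFn α (f₁ x) = f₂ (f x) := by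
      intro x hx
      rw [autFn_apply α (h₁.mem hx), hαe ⟨f₁ x, h₁.mem hx⟩]
      show f₂ (f (g₁ (f₁ x))) = _
      rw [hg₁f x hx]
    have hα' : IsMap F R (autFn α) := (isIso_autFn hRfn.1 hα).1
    have hM₂ : M P (fun x => autFn α (f₁ x)) :=
      hcomp P R f₁ (autFn α) h₁.1 hα' (fun x hx => h₁.mem hx) hM₁ hMα
    have hM₃ := hcomp P R (fun x => autFn α (f₁ x)) j (h₁.1.comp hα' fun x hx => h₁.mem hx)
      (hj.1.mono hRle) (fun x hx => autFn_mem α (h₁.mem hx)) hM₂ (hmono _ R j hj.1 hRle hMj)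
    have hfin : ∀ x ∈ P, j (autFn α (f₁ x)) = f x := fun x hx => by
      rw [hval x hx, hjf _ (hP₂N (hf.mem_img hx))]
    exact hcongr P _ f (hf.congr fun x hx => (hfin x hx).symm) hM₃ hfin

/-- Alperin's fusion theorem. -/
theorem alperin [Finite S] {p : ℕ} [Fact p.Prime] (hS : IsPGroup p S) (hF : F.IsSaturated p)
    (M : Subgroup Ω → (Ω → Ω) → Prop)
    (hcongr : ∀ P f g, IsMap F P f → M P f → (∀ x ∈ P, f x = g x) → M P g)
    (hmono : ∀ P P' f, IsMap F P f → P' ≤ P → M P f → M P' f)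
    (hcomp : ∀ P P' f g, IsMap F P f → IsMap F P' g → (∀ x ∈ P, f x ∈ P') → M P f → M P' g →
      M P (fun x => g (f x)))
    (hbase : ∀ R : Subgroup Ω, F.IsFullyNormalized R → F.IsCentric R → F.IsRadical p R →
      ∀ α ∈ F.autGroup R, M R (autFn α))
    {P : Subgroup Ω} {f : Ω → Ω} (hf : IsMap F P f) : M P f :=
  alperin_induction hS hF M hcongr hmono hcomp (fun R h1 h2 h3 α hα _ => hbase R h1 h2 h3 α hα) hf

/-! ### Normal subgroups -/

/-- Normality of a subgroup in terms of functions. -/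
theorem isNormal_iff [Finite S] {Q : Subgroup Ω} :
    F.IsNormal Q ↔ Q ≤ S ∧ ∀ P f, IsMap F P f →
      ∃ g, IsMap F (P ⊔ Q) g ∧ (∀ x ∈ P, g x = f x) ∧ ∀ q ∈ Q, g q ∈ Q := by
  refine and_congr_right fun hQ => ⟨fun h P f hf => ?_, fun h P φ hφ => ?_⟩
  · obtain ⟨φ, hφ, he⟩ := hf
    obtain ⟨ψ, hψ, hψP, hψQ⟩ := h P φ hφ
    refine ⟨toFn ψ, isMap_toFn hψ, fun x hx => ?_, fun q hq => ?_⟩
    · rw [toFn_apply ψ (Subgroup.mem_sup_left hx), ← he x hx]
      exact hψP ⟨x, hx⟩
    · rw [toFn_apply ψ (Subgroup.mem_sup_right hq)]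
      exact hψQ.le ⟨⟨q, Subgroup.mem_sup_right hq⟩, hq, rfl⟩
  · obtain ⟨g, ⟨ψ, hψ, he⟩, hgP, hgQ⟩ := h P (toFn φ) (isMap_toFn hφ)
    refine ⟨ψ, hψ, fun x => ?_, ?_⟩
    · exact (he _ _).trans ((hgP x x.2).trans (toFn_coe φ x))
    · refine eq_of_le_of_card hQ ?_ ?_
      · rintro _ ⟨x, hx, rfl⟩
        exact (he x x.2).symm ▸ hgQ _ hx
      · rw [Subgroup.card_map_of_injective (F.injective_of_mem hψ),
          Nat.card_congr (Subgroup.subgroupOfEquivOfLe (le_sup_right : Q ≤ P ⊔ Q)).toEquiv]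

/-- A map defined on a normal subgroup carries it onto itself. -/
theorem mapsTo_of_normal [Finite S] {Q P : Subgroup Ω} {f : Ω → Ω} (hQ : F.IsNormal Q) (hf : IsMap F P f)
    (h : Q ≤ P) : ∀ q ∈ Q, f q ∈ Q := by
  obtain ⟨g, -, hg, hgQ⟩ := (isNormal_iff.1 hQ).2 P f hf
  intro q hq
  rw [← hg q (h hq)]
  exact hgQ q hq

/-- A subgroup contained in every fully normalized centric radical subgroup and invariant under its automorphisms
is normal in the system. -/
theorem isNormal_of_radicals [Finite S] {p : ℕ} [Fact p.Prime] (hS : IsPGroup p S) (hF : F.IsSaturated p)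
    {Q : Subgroup Ω} (hQ : Q ≤ S)
    (h : ∀ R : Subgroup Ω, F.IsFullyNormalized R → F.IsCentric R → F.IsRadical p R →
      Q ≤ R ∧ ∀ α ∈ F.autGroup R, ∀ q ∈ Q, autFn α q ∈ Q) : F.IsNormal Q := by
  refine isNormal_iff.2 ⟨hQ, fun P f hf => ?_⟩
  refine alperin hS hF (fun P f => ∃ g, IsMap F (P ⊔ Q) g ∧ (∀ x ∈ P, g x = f x) ∧ ∀ q ∈ Q, g q ∈ Q)
    ?_ ?_ ?_ ?_ hf
  · rintro P f g - ⟨k, hk, h1, h2⟩ he
    exact ⟨k, hk, fun x hx => (h1 x hx).trans (he x hx), h2⟩
  · rintro P P' f - hle ⟨k, hk, h1, h2⟩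
    exact ⟨k, hk.mono (sup_le_sup_right hle Q), fun x hx => h1 x (hle hx), h2⟩
  · rintro P P' f g - - hfP ⟨k, hk, h1, h2⟩ ⟨l, hl, h3, h4⟩
    refine ⟨fun x => l (k x), hk.comp hl fun x hx => ?_, fun x hx => ?_, fun q hq => h4 _ (h2 q hq)⟩
    · obtain ⟨κ, -, he⟩ := id hk
      have hle : P ⊔ Q ≤ ((P' ⊔ Q).comap κ).map (P ⊔ Q).subtype := by
        refine sup_le (fun y hy => ?_) (fun y hy => ?_)
        · refine ⟨⟨y, Subgroup.mem_sup_left hy⟩, ?_, rfl⟩
          show κ _ ∈ P' ⊔ Q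
          rw [he, h1 y hy]
          exact Subgroup.mem_sup_left (hfP y hy)
        · refine ⟨⟨y, Subgroup.mem_sup_right hy⟩, ?_, rfl⟩
          show κ _ ∈ P' ⊔ Q
          rw [he]
          exact Subgroup.mem_sup_right (h2 y hy)
      obtain ⟨⟨y, hy'⟩, hy, rfl⟩ := hle hx
      show k y ∈ P' ⊔ Q
      rw [← he y hy']
      exact hy
    · show l (k x) = g (f x)
      rw [h1 x hx, h3 _ (hfP x hx)]
  · intro R h1 h2 h3 α hα
    obtain ⟨hQR, hinv⟩ := h R h1 h2 h3
    exact ⟨autFn α, by rw [sup_eq_left.2 hQR]; exact (isIso_autFn h1.1 hα).1, fun x _ => rfl,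
      fun q hq => hinv α hα q hq⟩

/-- `S` is normal in the system when it is the only fully normalized centric radical subgroup. -/
theorem isNormal_top_of_radicals [Finite S] {p : ℕ} [Fact p.Prime] (hS : IsPGroup p S) (hF : F.IsSaturated p)
    (h : ∀ R : Subgroup Ω, F.IsFullyNormalized R → F.IsCentric R → F.IsRadical p R → R = S) :
    F.IsNormal S :=
  isNormal_of_radicals hS hF le_rfl fun R h1 h2 h3 => by
    obtain rfl := h R h1 h2 h3
    exact ⟨le_rfl, fun α _ q hq => autFn_mem α hq⟩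

end Cfsg.Agent.FusionChain
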