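/-
Centric radical subgroups of saturated fusion systems.

Main results (namespace `Cfsg.Agent.FusionChain`):
* `mem_of_conj_mem_inn` : `C_S(R) ≤ R` and an element of `S` inducing an inner automorphism of `R` gives `g ∈ R`;
* `le_of_autInducedBy_le_inn` : if `Aut_S(R)` is inner and `C_S(R) ≤ R` then `R = S`;
* `eq_top_of_autS_le_pCore` : a centric radical subgroup with `Aut_S(R) ≤ O_p(Aut_F(R))` is `S`;
* `le_pCoreAut_of_chain` : stabilisers of chains of invariant subgroups lie in `O_p`;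
* `mem_of_stab` : an element of `N_S(R)` acting in `O_p` lies in `R` (centric radical);
* `centralizerIn_le_of_centric`.
-/
import Cfsg.Agent.Lib.FusionChain.Alperin

set_option autoImplicit false

namespace Cfsg.Agent.FusionChain

open Cfsg Cfsg.FusionSystem Cfsg.Agent.Fusion

variable {Ω : Type*} [Group Ω] {S : Subgroup Ω} {F : FusionSystem S}

theorem centralizerIn_le_of_centric {R : Subgroup Ω} (hc : F.IsCentric R) : centralizerIn S R ≤ R :=
  hc.2 R (isConj_refl F hc.1)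

/-- An element inducing an inner automorphism of a centric subgroup lies in it. -/
theorem mem_of_conj_mem_inn {R : Subgroup Ω} (hC : centralizerIn S R ≤ R) {g : Ω} (hg : g ∈ S) (hR : R ≤ S)
    {α : MulAut R} (hα : α ∈ Cfsg.Inn R) (he : ∀ x : R, ((α x : R) : Ω) = g * x * g⁻¹) : g ∈ R := by
  obtain ⟨r, rfl⟩ := hα
  have h : (r : Ω)⁻¹ * g ∈ centralizerIn S R := by
    refine mem_centralizerIn_of_conj (S.mul_mem (S.inv_mem (hR r.2)) hg) fun x hx => ?_
    have h1 := he ⟨x, hx⟩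
    simp only [MulAut.conj_apply, Subgroup.coe_mul, Subgroup.coe_inv] at h1
    rw [show (r : Ω)⁻¹ * g * x * ((r : Ω)⁻¹ * g)⁻¹ = (r : Ω)⁻¹ * (g * x * g⁻¹) * r by group, ← h1]
    group
  simpa using R.mul_mem r.2 (hC h)

/-- If every element of `S` normalizing `R` induces an inner automorphism and `C_S(R) ≤ R`, then `R = S`. -/
theorem eq_top_of_autInducedBy_le_inn [Finite S] {p : ℕ} [Fact p.Prime] (hS : IsPGroup p S) {R : Subgroup Ω}
    (hR : R ≤ S) (hC : centralizerIn S R ≤ R) (h : autInducedBy S R ≤ Cfsg.Inn R) : R = S := by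
  refine eq_of_le_of_not_lt hR fun hlt => ?_
  obtain ⟨g, hg, hgR⟩ := SetLike.exists_of_lt (lt_normalizerIn hS le_rfl hlt)
  refine hgR (mem_of_conj_mem_inn hC hg.1 hR (α := normConj S R ⟨g, hg⟩) (h ?_) fun x => rfl)
  exact range_normConj S R ▸ ⟨⟨g, hg⟩, rfl⟩

/-- A centric radical subgroup with `Aut_S(R) ≤ O_p(Aut_F(R))` is `S`. -/
theorem eq_top_of_autS_le_pCore [Finite S] {p : ℕ} [Fact p.Prime] (hS : IsPGroup p S) {R : Subgroup Ω}
    (hc : F.IsCentric R) (hr : F.IsRadical p R) (h : autInducedBy S R ≤ pCoreAut F p R) : R = S :=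
  eq_top_of_autInducedBy_le_inn hS hr.1 (centralizerIn_le_of_centric hc) (hr.2 ▸ h)

/-- An element of `N_S(R)` inducing an element of `O_p(Aut_F(R))` lies in a centric radical `R`. -/
theorem mem_of_mem_pCoreAut {p : ℕ} {R : Subgroup Ω} (hc : F.IsCentric R) (hr : F.IsRadical p R) {g : Ω}
    (hg : g ∈ S) {α : MulAut R} (hα : α ∈ pCoreAut F p R) (he : ∀ x : R, ((α x : R) : Ω) = g * x * g⁻¹) :
    g ∈ R :=
  mem_of_conj_mem_inn (centralizerIn_le_of_centric hc) hg hr.1 (hr.2 ▸ hα) he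

/-- Automorphisms of the system stabilising an invariant chain of `R` lie in `O_p(Aut_F(R))`. -/
theorem mem_pCoreAut_of_chain [Finite S] {p : ℕ} [Fact p.Prime] (hS : IsPGroup p S) {R : Subgroup Ω}
    (hR : R ≤ S) (n : ℕ) (U : ℕ → Subgroup R) (h0 : U 0 = ⊥) (hn : U n = ⊤)
    (hmono : ∀ i < n, U i ≤ U (i + 1))
    (hinv : ∀ a ∈ F.autGroup R, ∀ i ≤ n, ∀ x ∈ U i, a x ∈ U i)
    {α : MulAut R} (hα : α ∈ F.autGroup R) (hst : ∀ i < n, ∀ x ∈ U (i + 1), x⁻¹ * α x ∈ U i) :
    α ∈ pCoreAut F p R :=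
  have := finite_of_le hR
  ⟨⟨α, hα⟩, mem_pCore_of_stabilizes_chain (hS.to_le hR) (F.autGroup R) n U h0 hn hmono hinv ⟨α, hα⟩ hst, rfl⟩

end Cfsg.Agent.FusionChain
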