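/-
Focal and hyperfocal subgroups of saturated fusion systems: containment and invariance.

Main results (namespace `Cfsg.Agent.FusionChain`):
* `hyperfocal_le_focal`, `focalSubgroup_le`, `hyperfocalSubgroup_le`;
* `mem_pResidual_of_coprime`, `inv_mul_autFn_mem_hyperfocal`, `inv_mul_map_mem_focal`;
* `map_hyperfocal` : maps defined on `S` preserve the hyperfocal subgroup;
* `conj_mem_hyperfocal` : it is normalized by `S`;
* `autFn_mem_hyperfocal` : automorphisms of a fully automized `R` preserve `hyp ∩ R`; `autFn_mem_focal`.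
-/
import Cfsg.Agent.Lib.FusionChain.Radical

set_option autoImplicit false

namespace Cfsg.Agent.FusionChain

open Cfsg Cfsg.FusionSystem Cfsg.Agent.Fusion

variable {Ω : Type*} [Group Ω] {S : Subgroup Ω} {F : FusionSystem S}

theorem focalSubgroup_le : F.focalSubgroup ≤ S := by
  refine (Subgroup.closure_le _).2 ?_
  rintro _ ⟨P, φ, x, hφ, rfl⟩
  exact S.mul_mem (S.inv_mem ((F.le_of_mem hφ).1 x.2)) ((F.le_of_mem hφ).2 x)

theorem inv_mul_map_mem_focal {P : Subgroup Ω} {f : Ω → Ω} (hf : IsMap F P f) {x : Ω} (hx : x ∈ P) :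
    x⁻¹ * f x ∈ F.focalSubgroup := by
  obtain ⟨φ, hφ, he⟩ := hf
  exact Subgroup.subset_closure ⟨P, φ, ⟨x, hx⟩, hφ, by rw [he x hx]⟩

theorem hyperfocal_le_focal (p : ℕ) : F.hyperfocalSubgroup p ≤ F.focalSubgroup := by
  refine (Subgroup.closure_le _).2 ?_
  rintro _ ⟨P, α, x, hP, -, rfl⟩
  have h := inv_mul_map_mem_focal (isIso_autFn hP α.2).1 x.2
  rwa [autFn_apply _ x.2] at h

theorem hyperfocalSubgroup_le (p : ℕ) : F.hyperfocalSubgroup p ≤ S :=
  (hyperfocal_le_focal p).trans focalSubgroup_le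

theorem mem_pResidual_of_coprime {p : ℕ} {R : Subgroup Ω} {α : MulAut R} (hα : α ∈ F.autGroup R)
    (h : (orderOf α).Coprime p) : (⟨α, hα⟩ : F.autGroup R) ∈ Cfsg.pResidual p (F.autGroup R) :=
  Subgroup.subset_closure (show (orderOf (⟨α, hα⟩ : F.autGroup R)).Coprime p by rwa [Subgroup.orderOf_mk])

theorem inv_mul_autFn_mem_hyperfocal {p : ℕ} {R : Subgroup Ω} (hR : R ≤ S) {α : MulAut R}
    (hα : α ∈ F.autGroup R) (h : (⟨α, hα⟩ : F.autGroup R) ∈ Cfsg.pResidual p (F.autGroup R))
    {x : Ω} (hx : x ∈ R) : x⁻¹ * autFn α x ∈ F.hyperfocalSubgroup p :=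
  Subgroup.subset_closure ⟨R, ⟨α, hα⟩, ⟨x, hx⟩, hR, h, by rw [autFn_apply α hx]⟩

/-- Maps defined on the whole of `S` preserve the hyperfocal subgroup. -/
theorem map_hyperfocal {p : ℕ} {g : Ω → Ω} (hg : IsMap F S g) {y : Ω}
    (hy : y ∈ F.hyperfocalSubgroup p) : g y ∈ F.hyperfocalSubgroup p := by
  obtain ⟨φ, -, he⟩ := id hg
  have hle : F.hyperfocalSubgroup p ≤ ((F.hyperfocalSubgroup p).comap φ).map S.subtype := by
    refine (Subgroup.closure_le _).2 ?_
    rintro _ ⟨P, α, x, hP, hα, rfl⟩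
    have hiso : IsIso F P (img g P) g := (hg.mono hP).isIso
    let ψ : F.autGroup P →* F.autGroup (img g P) :=
      (((MulAut.congr hiso.equiv).toMonoidHom.comp (F.autGroup P).subtype).codRestrict _
        fun β => congr_mem_autGroup hiso β.2)
    have hψ : ψ α ∈ Cfsg.pResidual p (F.autGroup (img g P)) := by
      have : Cfsg.pResidual p (F.autGroup P) ≤ (Cfsg.pResidual p (F.autGroup (img g P))).comap ψ := by
        refine (Subgroup.closure_le _).2 fun β hβ => Subgroup.subset_closure ?_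
        have hinj : Function.Injective ψ := fun a b hab =>
          Subtype.ext ((MulAut.congr hiso.equiv).injective (congrArg Subtype.val hab))
        show (orderOf (ψ β)).Coprime p
        rwa [orderOf_injective ψ hinj]
      exact this hα
    have hxS : (x : Ω)⁻¹ * ((α : MulAut P) x : P) ∈ S := S.mul_mem (S.inv_mem (hP x.2)) (hP (Subtype.prop _))
    refine ⟨⟨_, hxS⟩, ?_, rfl⟩
    show φ _ ∈ F.hyperfocalSubgroup p
    rw [he, hg.map_mul (S.inv_mem (hP x.2)) (hP (Subtype.prop _)), hg.map_inv (hP x.2)]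
    refine Subgroup.subset_closure ⟨img g P, ψ α, hiso.equiv x, hiso.le_right, hψ, ?_⟩
    rw [show ((ψ α : MulAut (img g P))) = MulAut.congr hiso.equiv (α : MulAut P) from rfl,
      congr_apply_coe, IsIso.equiv_apply]
  obtain ⟨⟨z, hz'⟩, hz, rfl⟩ := hle hy
  show g z ∈ _
  rw [← he z hz']
  exact hz

theorem conj_mem_hyperfocal {p : ℕ} {s y : Ω} (hs : s ∈ S) (hy : y ∈ F.hyperfocalSubgroup p) :
    s * y * s⁻¹ ∈ F.hyperfocalSubgroup p :=
  map_hyperfocal (IsMap.conj le_rfl hs) hy

/-- Automorphisms of a fully automized subgroup preserve its intersection with the hyperfocal subgroup. -/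
theorem autFn_mem_hyperfocal [Finite S] {p : ℕ} [Fact p.Prime] {R : Subgroup Ω} (hA : F.IsFullyAutomized p R)
    {α : MulAut R} (hα : α ∈ F.autGroup R) {x : Ω} (hx : x ∈ R) (hxh : x ∈ F.hyperfocalSubgroup p) :
    autFn α x ∈ F.hyperfocalSubgroup p := by
  have hR := hA.1
  have := finite_mulAut hR
  obtain ⟨-, T, hT⟩ := id hA
  have htop : IsSylowIn p (T : Subgroup (F.autGroup R)) ⊤ :=
    ⟨le_top, T.isPGroup', fun C h1 _ h3 => T.is_maximal' h3 h1⟩
  have hsup := htop.sup_pResidual
  have key : ∀ a : F.autGroup R, a ∈ (T : Subgroup (F.autGroup R)) ⊔ Cfsg.pResidual p (F.autGroup R) →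
      ∀ y ∈ R, y ∈ F.hyperfocalSubgroup p → autFn (a : MulAut R) y ∈ F.hyperfocalSubgroup p := by
    intro a ha
    rw [Subgroup.sup_eq_closure] at ha
    induction ha using Subgroup.closure_induction_left with
    | one => intro y hy hyh; rwa [autFn_apply _ hy]
    | mul_left a ha b _ ih =>
      intro y hy hyh
      have hb := ih y hy hyh
      have hbR := autFn_mem (b : MulAut R) hy
      have hval : autFn ((a * b : F.autGroup R) : MulAut R) y = autFn (a : MulAut R) (autFn (b : MulAut R) y) := by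
        rw [autFn_apply _ hy, autFn_apply _ hbR]
        exact congrArg (fun z : R => (((a : MulAut R) z : R) : Ω)) (Subtype.ext (autFn_apply _ hy).symm)
      rw [hval]
      rcases ha with ha | ha
      · have ha' : (a : MulAut R) ∈ autInducedBy S R := by rw [hT] at ha; exact ha
        obtain ⟨s, hs, hsα⟩ := mem_autInducedBy_iff.1 ha'
        rw [autFn_apply _ hbR, hsα]
        exact conj_mem_hyperfocal hs hb
      · have := Subgroup.mul_mem _ hb (inv_mul_autFn_mem_hyperfocal hR a.2 ha hbR)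
        rwa [mul_inv_cancel_left] at this
    | inv_mul_cancel a ha b _ ih =>
      intro y hy hyh
      have hb := ih y hy hyh
      have hbR := autFn_mem (b : MulAut R) hy
      have hval : autFn ((a⁻¹ * b : F.autGroup R) : MulAut R) y =
          autFn ((a⁻¹ : F.autGroup R) : MulAut R) (autFn (b : MulAut R) y) := by
        rw [autFn_apply _ hy, autFn_apply _ hbR]
        exact congrArg (fun z : R => ((((a⁻¹ : F.autGroup R) : MulAut R) z : R) : Ω))
          (Subtype.ext (autFn_apply _ hy).symm)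
      rw [hval]
      rcases ha with ha | ha
      · have ha' : ((a⁻¹ : F.autGroup R) : MulAut R) ∈ autInducedBy S R := by
          have h1 := inv_mem ha
          rw [SetLike.mem_coe, hT] at *
          exact h1
        obtain ⟨s, hs, hsα⟩ := mem_autInducedBy_iff.1 ha'
        rw [autFn_apply _ hbR, hsα]
        exact conj_mem_hyperfocal hs hb
      · have := Subgroup.mul_mem _ hb
          (inv_mul_autFn_mem_hyperfocal hR (a⁻¹ : F.autGroup R).2 (inv_mem ha) hbR)
        rwa [mul_inv_cancel_left] at this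
  exact key ⟨α, hα⟩ (hsup ▸ Subgroup.mem_top _) x hx hxh

theorem autFn_mem_focal {R : Subgroup Ω} (hR : R ≤ S) {α : MulAut R} (hα : α ∈ F.autGroup R) {x : Ω}
    (hx : x ∈ R) (hxf : x ∈ F.focalSubgroup) : autFn α x ∈ F.focalSubgroup := by
  have := Subgroup.mul_mem _ hxf (inv_mul_map_mem_focal (isIso_autFn hR hα).1 hx)
  rwa [mul_inv_cancel_left] at this

end Cfsg.Agent.FusionChain
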