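/-
Strongly closed subgroups and inner systems.

Main results (namespace `Cfsg.Agent.FusionChain`):
* `isSaturated_inner` : the inner system of a finite p-group is saturated;
* `isMap_mem_of_stronglyClosed`, `conj_mem_of_stronglyClosed`, `stronglyClosed_of_mapsTo`;
* `stronglyClosed_of_normal`; `map_upperCentral_mem`;
* `exists_top_extension_of_normal` : a map on a subgroup of a normal `Q` is the restriction of one from `Q` onto `Q`.
-/
import Cfsg.Agent.Lib.Fusion.Group
import Cfsg.Agent.Lib.Fusion.Criterion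
import Cfsg.Agent.Lib.FusionChain.Radical

set_option autoImplicit false

namespace Cfsg.Agent.FusionChain

open Cfsg Cfsg.FusionSystem Cfsg.Agent.Fusion

variable {Ω : Type*} [Group Ω] {S : Subgroup Ω} {F : FusionSystem S}

/-- The inner system of a finite `p`-group is saturated. -/
theorem isSaturated_inner [Finite S] {p : ℕ} [Fact p.Prime] (hS : IsPGroup p S) :
    (innerFusionSystem S).IsSaturated p := by
  refine isSaturated_of_criterion hS ?_ fun N hN => ?_
  · refine isFullyAutomized_iff.2 ⟨le_rfl, autInducedBy_le_autGroup _ le_rfl le_rfl,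
      isPGroup_autInducedBy hS, fun C hC hC' _ => le_antisymm ?_ hC⟩
    intro α hα
    obtain ⟨-, g, hg, he⟩ := isMap_inner_iff.1 ((mem_autGroup_iff le_rfl).1 (hC' hα))
    exact mem_autInducedBy_iff.2 ⟨g, hg, fun x => by rw [← autFn_apply α x.2, he x x.2]⟩
  · refine isReceptive_iff.2 ⟨hN.1, fun P f hf => ?_⟩
    obtain ⟨hP, g, hg, he⟩ := isMap_inner_iff.1 hf.1
    have hle : Nx S P f ≤ S := (Nx_le_normalizerIn S P f).trans inf_le_left
    exact ⟨fun x => g * x * g⁻¹, IsMap.conj hle hg, fun x hx => (he x hx).symm⟩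

theorem isMap_mem_of_stronglyClosed {T P : Subgroup Ω} {f : Ω → Ω} (hT : F.StronglyClosed T)
    (hf : IsMap F P f) {x : Ω} (hxP : x ∈ P) (hx : x ∈ T) : f x ∈ T := by
  obtain ⟨φ, hφ, e⟩ := hf.mono (inf_le_left : P ⊓ T ≤ P)
  rw [← e x ⟨hxP, hx⟩]
  exact hT.2 (P ⊓ T) inf_le_right φ hφ ⟨x, hxP, hx⟩

theorem conj_mem_of_stronglyClosed {T : Subgroup Ω} (hT : F.StronglyClosed T) {s x : Ω} (hs : s ∈ S)
    (hx : x ∈ T) : s * x * s⁻¹ ∈ T :=
  isMap_mem_of_stronglyClosed hT (IsMap.conj (F := F) hT.1 hs) hx hx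

theorem stronglyClosed_of_mapsTo {T : Subgroup Ω} (hT : T ≤ S)
    (h : ∀ P f, IsMap F P f → P ≤ T → ∀ x ∈ P, f x ∈ T) : F.StronglyClosed T :=
  ⟨hT, fun R hR φ hφ x => (toFn_coe φ x) ▸ h R _ (isMap_toFn hφ) hR x x.2⟩

/-- A map on a subgroup of a normal subgroup extends to an automorphism of that subgroup in the system. -/
theorem exists_top_extension_of_normal [Finite S] {Q P : Subgroup Ω} {f : Ω → Ω} (hQ : F.IsNormal Q)
    (hf : IsMap F P f) : ∃ α ∈ F.autGroup Q, ∀ x ∈ P, x ∈ Q → autFn α x = f x := by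
  obtain ⟨g, hg, hgf, hgQ⟩ := (isNormal_iff.1 hQ).2 P f hf
  have hm : IsMap F Q g := hg.mono le_sup_right
  have hiso : IsIso F Q Q g := ⟨hm, eq_of_le_of_card hQ.1 (hm.img_le le_rfl hgQ) (hm.card_img le_rfl).ge⟩
  obtain ⟨α, hα, he⟩ := exists_aut_of_isIso hiso
  exact ⟨α, hα, fun x hxP hx => by rw [autFn_apply α hx, he ⟨x, hx⟩, hgf x hxP]⟩

theorem stronglyClosed_of_normal [Finite S] {Q : Subgroup Ω} (hQ : F.IsNormal Q) : F.StronglyClosed Q :=
  stronglyClosed_of_mapsTo hQ.1 fun P f hf hP x hx => by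
    obtain ⟨g, -, hgf, hgQ⟩ := (isNormal_iff.1 hQ).2 P f hf
    exact hgf x hx ▸ hgQ x (hP hx)

/-- The upper central series of a subgroup is preserved by all its automorphisms. -/
theorem map_upperCentral_mem {Q : Subgroup Ω} (α : MulAut Q) (i : ℕ) {x : Ω}
    (hx : x ∈ (Subgroup.upperCentralSeries Q i).map Q.subtype) :
    autFn α x ∈ (Subgroup.upperCentralSeries Q i).map Q.subtype := by
  obtain ⟨y, hy, rfl⟩ := hx
  refine ⟨α y, (Subgroup.characteristic_iff_le_comap.mp inferInstance α) hy, ?_⟩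
  exact (autFn_apply α y.2).symm

end Cfsg.Agent.FusionChain
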