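/-
Puig's lemma: modulo a strongly closed subgroup every map of a saturated system comes from its normalizer.

Main results (namespace `Cfsg.Agent.FusionChain`):
* `sup_mapsTo` : a map carrying `A` and `B` into `C` carries `A ⊔ B` into `C`;
* `exists_map_congr_mod` : for `T` strongly closed every map `f` on `P` is congruent modulo `T`, pointwise on `P`,
  to a map on `P ⊔ T` (such a map carries `T` onto itself).
-/
import Cfsg.Agent.Lib.FusionChain.StronglyClosed

set_option autoImplicit false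

namespace Cfsg.Agent.FusionChain

open Cfsg Cfsg.FusionSystem Cfsg.Agent.Fusion
open scoped Pointwise

variable {Ω : Type*} [Group Ω] {S : Subgroup Ω} {F : FusionSystem S}

/-- A map carrying `A` and `B` into `C` carries `A ⊔ B` into `C`. -/
theorem sup_mapsTo {A B C P : Subgroup Ω} {g : Ω → Ω} (hg : IsMap F P g) (hA : A ≤ P) (hB : B ≤ P)
    (h1 : ∀ x ∈ A, g x ∈ C) (h2 : ∀ x ∈ B, g x ∈ C) : ∀ x ∈ A ⊔ B, g x ∈ C := by
  obtain ⟨κ, -, he⟩ := id hg
  have hle : A ⊔ B ≤ (C.comap κ).map P.subtype := by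
    refine sup_le (fun y hy => ?_) (fun y hy => ?_)
    · exact ⟨⟨y, hA hy⟩, show κ _ ∈ C by rw [he]; exact h1 y hy, rfl⟩
    · exact ⟨⟨y, hB hy⟩, show κ _ ∈ C by rw [he]; exact h2 y hy, rfl⟩
  intro x hx
  obtain ⟨⟨y, hy'⟩, hy, rfl⟩ := hle hx
  show g y ∈ C
  rw [← he y hy']
  exact hy

/-- Puig's lemma. -/
theorem exists_map_congr_mod [Finite S] {p : ℕ} [Fact p.Prime] (hS : IsPGroup p S) (hF : F.IsSaturated p)
    {T : Subgroup Ω} (hT : F.StronglyClosed T) {P : Subgroup Ω} {f : Ω → Ω} (hf : IsMap F P f) :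
    ∃ g, IsMap F (P ⊔ T) g ∧ ∀ x ∈ P, (g x)⁻¹ * f x ∈ T := by
  refine alperin_induction hS hF (fun P f => ∃ g, IsMap F (P ⊔ T) g ∧ ∀ x ∈ P, (g x)⁻¹ * f x ∈ T)
    ?_ ?_ ?_ ?_ hf
  · rintro P f g - ⟨k, hk, h⟩ he
    exact ⟨k, hk, fun x hx => he x hx ▸ h x hx⟩
  · rintro P P' f - hle ⟨k, hk, h⟩
    exact ⟨k, hk.mono (sup_le_sup_right hle T), fun x hx => h x (hle hx)⟩
  · rintro P P' f g - - hfP ⟨k, hk, h1⟩ ⟨l, hl, h2⟩
    have hkT : ∀ x ∈ T, k x ∈ T := fun x hx =>
      isMap_mem_of_stronglyClosed hT hk (Subgroup.mem_sup_right hx) hx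
    have hkP : ∀ x ∈ P, k x ∈ P' ⊔ T := fun x hx => by
      have h : k x = f x * ((k x)⁻¹ * f x)⁻¹ := by group
      rw [h]
      exact Subgroup.mul_mem _ (Subgroup.mem_sup_left (hfP x hx))
        (Subgroup.mem_sup_right (T.inv_mem (h1 x hx)))
    refine ⟨fun x => l (k x), hk.comp hl (sup_mapsTo hk le_sup_left le_sup_right hkP
      fun x hx => Subgroup.mem_sup_right (hkT x hx)), fun x hx => ?_⟩
    show (l (k x))⁻¹ * g (f x) ∈ T
    have ht : (k x)⁻¹ * f x ∈ T := h1 x hx
    have hlt : l ((k x)⁻¹ * f x) ∈ T := isMap_mem_of_stronglyClosed hT hl (Subgroup.mem_sup_right ht) ht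
    have hl2 : l (f x) = l (k x) * l ((k x)⁻¹ * f x) := by
      rw [← hl.map_mul (hkP x hx) (Subgroup.mem_sup_right ht), mul_inv_cancel_left]
    have h2' := h2 (f x) (hfP x hx)
    rw [hl2] at h2'
    have := T.mul_mem hlt h2'
    simpa [mul_assoc] using this
  · intro R hR hc hr α hα ih
    have hRS := hR.1
    have hA := fullyAutomized_of_fullyNormalized hS hF hR
    have hRr := receptive_of_fullyNormalized hS hF hR
    have hm := (isIso_autFn hRS hα).1
    by_cases hTR : T ≤ R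
    · exact ⟨autFn α, by rwa [sup_eq_left.2 hTR], fun x _ => by simp⟩
    have := finite_mulAut hRS
    -- the automorphisms acting trivially modulo `T`
    let K : Subgroup (MulAut R) :=
      { carrier := {a | a ∈ F.autGroup R ∧ ∀ x : R, ((x⁻¹ * a x : R) : Ω) ∈ T}
        one_mem' := ⟨Subgroup.one_mem _, fun x => by simp⟩
        mul_mem' := by
          rintro a b ⟨ha, ha'⟩ ⟨hb, hb'⟩
          refine ⟨Subgroup.mul_mem _ ha hb, fun x => ?_⟩
          have h1 := T.mul_mem (hb' x) (ha' (b x))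
          rwa [← Subgroup.coe_mul, mul_assoc, mul_inv_cancel_left, ← MulAut.mul_apply] at h1
        inv_mem' := by
          rintro a ⟨ha, ha'⟩
          refine ⟨Subgroup.inv_mem _ ha, fun x => ?_⟩
          have h1 := T.inv_mem (ha' (a⁻¹ x))
          rwa [← Subgroup.coe_inv, MulAut.apply_inv_self, mul_inv_rev, inv_inv] at h1 }
    have hKn : ∀ c ∈ F.autGroup R, ∀ a ∈ K, c * a * c⁻¹ ∈ K := by
      rintro c hc' a ⟨ha, ha'⟩
      refine ⟨Subgroup.mul_mem _ (Subgroup.mul_mem _ hc' ha) (Subgroup.inv_mem _ hc'), fun x => ?_⟩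
      have h1 := isMap_mem_of_stronglyClosed hT (isIso_autFn hRS hc').1 (Subtype.prop _) (ha' (c⁻¹ x))
      rw [autFn_apply c (Subtype.prop _)] at h1
      rwa [Subtype.coe_eta, map_mul, map_inv, MulAut.apply_inv_self, ← MulAut.mul_apply, ← MulAut.mul_apply] at h1
    have hB : IsSylowIn p (autInducedBy S R ⊓ K) K :=
      (isFullyAutomized_iff.1 hA).2.inf_normal (fun a ha => ha.1) hKn
    -- Frattini argument
    obtain ⟨a, ha, hconj⟩ := hB.exists_conj_le
      (H := (autInducedBy S R ⊓ K).map (MulAut.conj α).toMonoidHom)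
      (((isPGroup_autInducedBy hS).to_inf_left).map _)
      (by rintro _ ⟨b, hb, rfl⟩; exact hKn α hα b hb.2)
    have hβ : a * α ∈ F.autGroup R := Subgroup.mul_mem _ ha.1 hα
    have hnorm : ∀ k ∈ autInducedBy S R ⊓ K, a * α * k * (a * α)⁻¹ ∈ autInducedBy S R ⊓ K := fun k hk => by
      have := hconj _ ⟨k, hk, rfl⟩
      simpa [mul_assoc] using this
    obtain ⟨g, hg, hgα, -⟩ := exists_extension_NK hRr hβ K hnorm
    -- the extension is defined on a larger subgroup
    have hTnorm : R ≤ Subgroup.normalizer (T : Set Ω) := fun r hr' =>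
      Subgroup.mem_normalizer_iff.2 fun x => ⟨fun hx => conj_mem_of_stronglyClosed hT (hRS hr') hx, fun hx => by
        have := conj_mem_of_stronglyClosed hT (S.inv_mem (hRS hr')) hx
        simpa [mul_assoc] using this⟩
    obtain ⟨y, hy, hyR⟩ := SetLike.exists_of_lt
      (lt_normalizerIn hS (sup_le hRS hT.1 : R ⊔ T ≤ S) (left_lt_sup.2 hTR))
    obtain ⟨r, hr', t, ht, rfl⟩ : y ∈ (R : Set Ω) * (T : Set Ω) := by
      rw [← Subgroup.coe_mul_of_left_le_normalizer_right R T hTnorm]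
      exact hy.1
    have htN : t ∈ normalizerIn S R := by
      have h0 := Subgroup.mul_mem (normalizerIn S R) (Subgroup.inv_mem _ (le_normalizerIn hRS hr'))
        (show r * t ∈ normalizerIn S R from ⟨(sup_le hRS hT.1 : R ⊔ T ≤ S) hy.1, hy.2⟩)
      rwa [inv_mul_cancel_left] at h0
    have htK : t ∈ NK S R K := by
      refine mem_NK.2 ⟨hT.1 ht, normConj S R ⟨t, htN⟩, ⟨autInducedBy_le_autGroup F le_rfl hRS
        (range_normConj S R ▸ ⟨_, rfl⟩), fun x => ?_⟩, fun x => rfl⟩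
      show (x : Ω)⁻¹ * (t * x * t⁻¹) ∈ T
      have h1 := conj_mem_of_stronglyClosed hT (S.inv_mem (hRS x.2)) ht
      rw [inv_inv] at h1
      have h2 := T.mul_mem h1 (T.inv_mem ht)
      simpa [mul_assoc] using h2
    have hlt : Nat.card R < Nat.card (R ⊔ NK S R K : Subgroup Ω) := by
      have hle : R ⊔ NK S R K ≤ S := sup_le hRS (NK_le S R K)
      refine lt_of_le_of_ne (have := finite_of_le hle; Subgroup.card_le_of_le le_sup_left) fun he => ?_
      have h := eq_of_le_of_card hle le_sup_left he.ge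
      exact hyR (R.mul_mem hr' (h.ge (Subgroup.mem_sup_right htK)))
    obtain ⟨k, hk, hk'⟩ := ih _ g hg hlt
    refine ⟨k, hk.mono (sup_le_sup_right le_sup_left T), fun x hx => ?_⟩
    have h1 := hk' x (Subgroup.mem_sup_left hx)
    rw [hgα x hx, autFn_apply _ hx, MulAut.mul_apply] at h1
    rw [autFn_apply α hx]
    have h2 := T.inv_mem (ha.2 (α ⟨x, hx⟩))
    rw [Subgroup.coe_mul, Subgroup.coe_inv, mul_inv_rev, inv_inv] at h2
    have h3 := T.mul_mem h1 h2
    simpa [mul_assoc] using h3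

end Cfsg.Agent.FusionChain
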