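/-
An automorphism of order prime to `p` of a finite `p`-group fixing the small elements is trivial.

Main results (namespace `Cfsg.Agent.FusionChain`):
* `IsSmall p x` : `x ^ p = 1`, or `p = 2` and `x ^ 4 = 1`;
* `eq_one_of_fixes_small` : a p'-automorphism fixing every small element of a finite p-group is the identity;
* `eq_one_of_fixes_small_of_moves` : it is enough that it fixes the small elements of a subgroup `D` containing
  every `x⁻¹ * β x`.
-/
import Cfsg.Agent.Lib.FusionChain.Stabilizer
import Cfsg.Agent.Lib.PGroup.Basic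

set_option autoImplicit false
open scoped commutatorElement

namespace Cfsg.Agent.FusionChain

universe v

/-- The small elements: those of order dividing `p`, or dividing `4` when `p = 2`. -/
def IsSmall {R : Type*} [Monoid R] (p : ℕ) (x : R) : Prop := x ^ p = 1 ∨ (p = 2 ∧ x ^ 4 = 1)

theorem IsSmall.map {R R' : Type*} [Monoid R] [Monoid R'] {p : ℕ} {x : R} (h : IsSmall p x)
    {F : Type*} [FunLike F R R'] [MonoidHomClass F R R'] (f : F) : IsSmall p (f x) := by
  rcases h with h | ⟨hp, h⟩
  · exact Or.inl (by rw [← map_pow, h, map_one])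
  · exact Or.inr ⟨hp, by rw [← map_pow, h, map_one]⟩

theorem isSmall_of_injective {R R' : Type*} [Monoid R] [Monoid R'] {p : ℕ} {x : R}
    (f : R →* R') (hf : Function.Injective f) (h : IsSmall p (f x)) : IsSmall p x := by
  rcases h with h | ⟨hp, h⟩
  · exact Or.inl (hf (by rw [map_pow, h, map_one]))
  · exact Or.inr ⟨hp, hf (by rw [map_pow, h, map_one])⟩

/-- The core of the argument: an automorphism trivial on the Frattini subgroup whose displacements generate. -/
theorem isSmall_displacement {R : Type*} [Group R] [Finite R] {p : ℕ} [hp : Fact p.Prime]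
    (hR : IsPGroup p R) (β : MulAut R) (hfix : ∀ u ∈ frattini R, β u = u)
    (hgen : Subgroup.closure (Set.range fun x : R => x⁻¹ * β x) = ⊤) (x : R) :
    IsSmall p (x⁻¹ * β x) := by
  -- the Frattini subgroup is central
  have hcent : ∀ c ∈ frattini R, c ∈ Subgroup.center R := by
    intro c hc
    have hle : Subgroup.closure (Set.range fun x : R => x⁻¹ * β x) ≤ Subgroup.centralizer {c} := by
      refine (Subgroup.closure_le _).mpr ?_
      rintro _ ⟨y, rfl⟩
      simp only [SetLike.mem_coe, Subgroup.mem_centralizer_singleton_iff]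
      have h1 := hfix (y * c * y⁻¹) ((inferInstance : (frattini R).Normal).conj_mem c hc y)
      rw [map_mul, map_mul, map_inv, hfix c hc, mul_inv_eq_iff_eq_mul] at h1
      calc y⁻¹ * β y * c = y⁻¹ * (β y * c) := mul_assoc _ _ _
        _ = y⁻¹ * (y * c * y⁻¹ * β y) := by rw [h1]
        _ = c * (y⁻¹ * β y) := by group
    rw [Subgroup.mem_center_iff]
    intro g
    exact Subgroup.mem_centralizer_singleton_iff.mp (hle (hgen ▸ Subgroup.mem_top g))
  have hpow : ∀ a : R, a ^ p ∈ Subgroup.center R := fun a => hcent _ (PGroup.pow_mem_frattini hR a)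
  have hcomm : ∀ a b c : R, Commute ⁅a, b⁆ c := fun a b c =>
    (Subgroup.mem_center_iff.mp (hcent _ (PGroup.commutatorElement_mem_frattini hR a b)) c).symm
  have hcp : ∀ a b : R, ⁅a, b⁆ ^ p = 1 := by
    intro a b
    have h2 := PGroup.commutator_pow_left (x := a) (y := b) (hcomm a b a).symm p
    rw [← h2, commutatorElement_eq_one_iff_mul_comm]
    exact (Subgroup.mem_center_iff.mp (hpow a) b).symm
  have hxp : β (x ^ p) = x ^ p := hfix _ (PGroup.pow_mem_frattini hR x)
  rcases eq_or_ne p 2 with rfl | hp2
  · refine Or.inr ⟨rfl, ?_⟩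
    have hx4 : β (x ^ 4) = x ^ 4 := by rw [show (4 : ℕ) = 2 * 2 from rfl, pow_mul, map_pow, hxp]
    have h4 : (4 : ℕ).choose 2 = 2 * 3 := by decide
    rw [PGroup.mul_pow_eq (x := x⁻¹) (y := β x) (hcomm _ _ _).symm (hcomm _ _ _).symm, inv_pow, h4, pow_mul, hcp, one_pow, one_mul,
      ← map_pow, hx4, inv_mul_cancel]
  · refine Or.inl ?_
    have hdvd : p ∣ p.choose 2 :=
      hp.out.dvd_choose_self two_ne_zero (lt_of_le_of_ne hp.out.two_le (Ne.symm hp2))
    obtain ⟨k, hk⟩ := hdvd
    rw [PGroup.mul_pow_eq (x := x⁻¹) (y := β x) (hcomm _ _ _).symm (hcomm _ _ _).symm, inv_pow, hk, pow_mul, hcp, one_pow, one_mul,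
      ← map_pow, hxp, inv_mul_cancel]

theorem eq_one_of_fixes_small_aux (p : ℕ) [Fact p.Prime] (n : ℕ) :
    ∀ {R : Type v} [Group R] [Finite R], Nat.card R ≤ n → IsPGroup p R → ∀ β : MulAut R,
      (orderOf β).Coprime p → (∀ x : R, IsSmall p x → β x = x) → β = 1 := by
  induction n with
  | zero => intro R _ _ h; exact absurd h (Nat.card_pos.ne' ∘ Nat.le_zero.mp)
  | succ n ih =>
    intro R _ _ hcard hR β hβ hsmall
    rcases subsingleton_or_nontrivial R with hsub | hnt
    · exact MulEquiv.ext fun x => Subsingleton.elim _ _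
    -- `β` is trivial on every proper invariant subgroup
    have hsubfix : ∀ U : Subgroup R, U ≠ ⊤ → (∀ u ∈ U, β u ∈ U) → ∀ u ∈ U, β u = u := by
      intro U hU hinv u hu
      have hbij : Function.Bijective ((β.toMonoidHom.comp U.subtype).codRestrict U fun v => hinv v v.2) :=
        Finite.injective_iff_bijective.mp fun a b h => Subtype.ext (β.injective (congrArg Subtype.val h))
      let γ : MulAut U := MulEquiv.ofBijective _ hbij
      have hpow : ∀ (k : ℕ) (v : U), ((γ ^ k) v : R) = (β ^ k) v := by
        intro k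
        induction k with
        | zero => intro v; rfl
        | succ m ihm =>
          intro v
          rw [pow_succ', pow_succ', MulAut.mul_apply, MulAut.mul_apply, ← ihm v]
          rfl
      have hγ : (orderOf γ).Coprime p := by
        refine Nat.Coprime.coprime_dvd_left (orderOf_dvd_of_pow_eq_one ?_) hβ
        refine MulEquiv.ext fun v => Subtype.ext ?_
        rw [hpow, pow_orderOf_eq_one]
        rfl
      have hlt : Nat.card U < Nat.card R :=
        lt_of_le_of_ne U.card_le_card_group fun h => hU (Subgroup.card_eq_iff_eq_top U |>.mp h)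
      have h1 := ih (by omega) (hR.to_subgroup U) γ hγ fun v hv =>
        Subtype.ext (hsmall v (hv.map U.subtype))
      exact congrArg Subtype.val (DFunLike.congr_fun h1 ⟨u, hu⟩)
    have hstab : ∀ U : Subgroup R, (∀ u ∈ U, β u = u) → (∀ x, x⁻¹ * β x ∈ U) → β = 1 := fun U h1 h2 =>
      MulEquiv.ext fun x => eq_self_of_stab hR β hβ U h1 x (h2 x)
    set D := Subgroup.closure (Set.range fun x : R => x⁻¹ * β x) with hD
    by_cases hDtop : D = ⊤
    · have hΦ : frattini R ≠ ⊤ := fun h =>
        bot_ne_top (α := Subgroup R) (frattini_nongenerating (K := ⊥) (by rw [h, sup_top_eq]))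
      have hfix : ∀ u ∈ frattini R, β u = u :=
        hsubfix _ hΦ fun u hu => by
          have := (Subgroup.characteristic_iff_map_eq.mp inferInstance β : (frattini R).map β.toMonoidHom = _)
          exact this.le ⟨u, hu, rfl⟩
      have hdisp := isSmall_displacement hR β hfix hDtop
      exact hstab ⊤ (fun u _ => by
        have hle : D ≤ MonoidHom.eqLocus β.toMonoidHom (MonoidHom.id R) := by
          rw [hD, Subgroup.closure_le]
          rintro _ ⟨x, rfl⟩
          exact hsmall _ (hdisp x)
        exact hle (hDtop ▸ Subgroup.mem_top u)) fun x => Subgroup.mem_top _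
    · have hinv : ∀ u ∈ D, β u ∈ D := by
        have : D ≤ D.comap β.toMonoidHom := by
          rw [hD, Subgroup.closure_le]
          rintro _ ⟨x, rfl⟩
          exact Subgroup.subset_closure ⟨β x, by simp⟩
        exact fun u hu => this hu
      exact hstab D (hsubfix D hDtop hinv) fun x => Subgroup.subset_closure ⟨x, rfl⟩

/-- An automorphism of order prime to `p` of a finite `p`-group fixing every small element is the identity. -/
theorem eq_one_of_fixes_small {R : Type*} [Group R] [Finite R] {p : ℕ} [Fact p.Prime] (hR : IsPGroup p R)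
    (β : MulAut R) (hβ : (orderOf β).Coprime p) (h : ∀ x : R, IsSmall p x → β x = x) : β = 1 :=
  eq_one_of_fixes_small_aux p _ le_rfl hR β hβ h

/-- An automorphism of order prime to `p` fixing the small elements of an invariant subgroup fixes it pointwise. -/
theorem fixed_on_invariant {R : Type*} [Group R] [Finite R] {p : ℕ} [Fact p.Prime]
    (hR : IsPGroup p R) (β : MulAut R) (hβ : (orderOf β).Coprime p) (D : Subgroup R)
    (hinv : ∀ u ∈ D, β u ∈ D) (h : ∀ x ∈ D, IsSmall p x → β x = x) : ∀ u ∈ D, β u = u := by
  have hbij : Function.Bijective ((β.toMonoidHom.comp D.subtype).codRestrict D fun v => hinv v v.2) :=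
    Finite.injective_iff_bijective.mp fun a b he => Subtype.ext (β.injective (congrArg Subtype.val he))
  let γ : MulAut D := MulEquiv.ofBijective _ hbij
  have hpow : ∀ (k : ℕ) (v : D), ((γ ^ k) v : R) = (β ^ k) v := by
    intro k
    induction k with
    | zero => intro v; rfl
    | succ m ihm =>
      intro v
      rw [pow_succ', pow_succ', MulAut.mul_apply, MulAut.mul_apply, ← ihm v]
      rfl
  have hγ : (orderOf γ).Coprime p := by
    refine Nat.Coprime.coprime_dvd_left (orderOf_dvd_of_pow_eq_one ?_) hβ
    refine MulEquiv.ext fun v => Subtype.ext ?_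
    rw [hpow, pow_orderOf_eq_one]
    rfl
  have h1 := eq_one_of_fixes_small (hR.to_subgroup D) γ hγ fun v hv =>
    Subtype.ext (h v v.2 (hv.map D.subtype))
  exact fun u hu => (congrArg Subtype.val (DFunLike.congr_fun h1 (⟨u, hu⟩ : D)) :)

/-- It is enough to fix the small elements of a subgroup containing every `x⁻¹ * β x`. -/
theorem eq_one_of_fixes_small_of_moves {R : Type*} [Group R] [Finite R] {p : ℕ} [Fact p.Prime]
    (hR : IsPGroup p R) (β : MulAut R) (hβ : (orderOf β).Coprime p) (D : Subgroup R)
    (hmove : ∀ x, x⁻¹ * β x ∈ D) (h : ∀ x ∈ D, IsSmall p x → β x = x) : β = 1 := by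
  have hinv : ∀ u ∈ D, β u ∈ D := fun u hu => by
    have := D.mul_mem hu (hmove u)
    rwa [mul_inv_cancel_left] at this
  exact MulEquiv.ext fun x =>
    eq_self_of_stab hR β hβ D (fixed_on_invariant hR β hβ D hinv h) x (hmove x)

end Cfsg.Agent.FusionChain
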