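/-
A characteristic subgroup made of small elements that detects automorphisms of order prime to `p`.

Main result (namespace `Cfsg.Agent.FusionChain`):
* `exists_small_detecting` : a finite p-group `R` has a characteristic subgroup `E`, every element of which is small
  (`x ^ p = 1`, or `x ^ 4 = 1` when `p = 2`), such that a p'-automorphism fixing `E` pointwise is the identity.
-/
import Cfsg.Agent.Lib.FusionChain.SmallElements
import Cfsg.Agent.Lib.PGroup.Critical

set_option autoImplicit false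
open scoped commutatorElement

namespace Cfsg.Agent.FusionChain

/-- Small elements of a critical subgroup form a detecting characteristic subgroup. -/
theorem exists_small_detecting {R : Type*} [Group R] [Finite R] {p : ℕ} [hp : Fact p.Prime]
    (hR : IsPGroup p R) :
    ∃ E : Subgroup R, E.Characteristic ∧ (∀ x ∈ E, IsSmall p x) ∧
      ∀ β : MulAut R, (orderOf β).Coprime p → (∀ x ∈ E, β x = x) → β = 1 := by
  obtain ⟨C, hC⟩ := PGroup.exists_critical hR
  have := hC.char
  have hmul : ∀ x ∈ C, ∀ y ∈ C, IsSmall p x → IsSmall p y → IsSmall p (x * y) := by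
    intro x hx y hy hxs hys
    have hc1 : Commute x ⁅y, x⁆ := Subgroup.mem_centralizer_iff.mp (hC.comm_mem y hy x).2 x hx
    have hc2 : Commute y ⁅y, x⁆ := Subgroup.mem_centralizer_iff.mp (hC.comm_mem y hy x).2 y hy
    have hcp : ⁅y, x⁆ ^ p = 1 := by
      rw [← PGroup.commutator_pow_left hc2, commutatorElement_eq_one_iff_mul_comm]
      exact (Subgroup.mem_centralizer_iff.mp (hC.pow_mem y hy) x hx).symm
    rcases eq_or_ne p 2 with rfl | hp2
    · refine Or.inr ⟨rfl, ?_⟩
      have h4 : ∀ z : R, IsSmall 2 z → z ^ 4 = 1 := by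
        rintro z (h | ⟨-, h⟩)
        · rw [show (4 : ℕ) = 2 * 2 from rfl, pow_mul, h, one_pow]
        · exact h
      have hch : (4 : ℕ).choose 2 = 2 * 3 := by decide
      rw [PGroup.mul_pow_eq hc1 hc2, hch, pow_mul, hcp, one_pow, one_mul, h4 x hxs, h4 y hys, one_mul]
    · refine Or.inl ?_
      obtain ⟨k, hk⟩ := hp.out.dvd_choose_self two_ne_zero (lt_of_le_of_ne hp.out.two_le (Ne.symm hp2))
      have h1 : ∀ z : R, IsSmall p z → z ^ p = 1 := fun z hz => hz.resolve_right fun h => hp2 h.1
      rw [PGroup.mul_pow_eq hc1 hc2, hk, pow_mul, hcp, one_pow, one_mul, h1 x hxs, h1 y hys, one_mul]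
  have hinv : ∀ x : R, IsSmall p x → IsSmall p x⁻¹ := by
    rintro x (h | ⟨h2, h⟩)
    · exact Or.inl (by rw [inv_pow, h, inv_one])
    · exact Or.inr ⟨h2, by rw [inv_pow, h, inv_one]⟩
  let E : Subgroup R :=
    { carrier := {x | x ∈ C ∧ IsSmall p x}
      one_mem' := ⟨C.one_mem, Or.inl (one_pow p)⟩
      mul_mem' := fun ha hb => ⟨C.mul_mem ha.1 hb.1, hmul _ ha.1 _ hb.1 ha.2 hb.2⟩
      inv_mem' := fun ha => ⟨C.inv_mem ha.1, hinv _ ha.2⟩ }
  refine ⟨E, PGroup.characteristic_of_forall_mem fun φ x hx =>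
    ⟨(PGroup.aut_mem_iff φ x).mpr hx.1, hx.2.map φ⟩, fun x hx => hx.2, fun β hβ hfix => ?_⟩
  refine PGroup.aut_eq_one_of_fix_selfCentralizing hR hC.self_centralizing hβ ?_
  exact fixed_on_invariant hR β hβ C (fun u hu => (PGroup.aut_mem_iff β u).mpr hu)
    fun x hx hs => hfix x ⟨hx, hs⟩

end Cfsg.Agent.FusionChain
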